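import Cfsg.Agent.H0.TCK1a.K0
import Cfsg.Agent.H0.TCK1a.K1
import Cfsg.Agent.H0.TCK1a.K2
import Cfsg.Agent.H0.TCK1a.K3
import Cfsg.Agent.H0.TCK1a.K4
import Cfsg.Agent.H0.TCK1a.K5
import Cfsg.Agent.H0.TCK1a.K6
import Cfsg.Agent.H0.TCK1a.K7
import Cfsg.Agent.H0.TCK1a.K8
import Cfsg.Agent.H0.TCK1a.K9
import Cfsg.Agent.H0.TCK1a.K10
import Cfsg.Agent.H0.TCK1a.K11
set_option maxRecDepth 100000
namespace H0.TCK1a
open H0
theorem rows0 : ∀ c < (0 + 62) * 64, c < C.M → TC.chkRow C c = true :=
  TC.rows_step (TC.rows_zero C) k0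
theorem rows1 : ∀ c < (62 + 62) * 64, c < C.M → TC.chkRow C c = true :=
  TC.rows_step (rows0) k1
theorem rows2 : ∀ c < (124 + 62) * 64, c < C.M → TC.chkRow C c = true :=
  TC.rows_step (rows1) k2
theorem rows3 : ∀ c < (186 + 62) * 64, c < C.M → TC.chkRow C c = true :=
  TC.rows_step (rows2) k3
theorem rows4 : ∀ c < (248 + 62) * 64, c < C.M → TC.chkRow C c = true :=
  TC.rows_step (rows3) k4
theorem rows5 : ∀ c < (310 + 62) * 64, c < C.M → TC.chkRow C c = true :=
  TC.rows_step (rows4) k5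
theorem rows6 : ∀ c < (372 + 62) * 64, c < C.M → TC.chkRow C c = true :=
  TC.rows_step (rows5) k6
theorem rows7 : ∀ c < (434 + 62) * 64, c < C.M → TC.chkRow C c = true :=
  TC.rows_step (rows6) k7
theorem rows8 : ∀ c < (496 + 62) * 64, c < C.M → TC.chkRow C c = true :=
  TC.rows_step (rows7) k8
theorem rows9 : ∀ c < (558 + 62) * 64, c < C.M → TC.chkRow C c = true :=
  TC.rows_step (rows8) k9
theorem rows10 : ∀ c < (620 + 62) * 64, c < C.M → TC.chkRow C c = true :=
  TC.rows_step (rows9) k10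
theorem rows11 : ∀ c < (682 + 62) * 64, c < C.M → TC.chkRow C c = true :=
  TC.rows_step (rows10) k11
theorem rows12 : ∀ c < (744 + 62) * 64, c < C.M → TC.chkRow C c = true :=
  TC.rows_step (rows11) k12
theorem rows13 : ∀ c < (806 + 62) * 64, c < C.M → TC.chkRow C c = true :=
  TC.rows_step (rows12) k13
theorem rows14 : ∀ c < (868 + 62) * 64, c < C.M → TC.chkRow C c = true :=
  TC.rows_step (rows13) k14
theorem rows15 : ∀ c < (930 + 62) * 64, c < C.M → TC.chkRow C c = true :=
  TC.rows_step (rows14) k15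
theorem rows16 : ∀ c < (992 + 62) * 64, c < C.M → TC.chkRow C c = true :=
  TC.rows_step (rows15) k16
theorem rows17 : ∀ c < (1054 + 62) * 64, c < C.M → TC.chkRow C c = true :=
  TC.rows_step (rows16) k17
theorem rows18 : ∀ c < (1116 + 62) * 64, c < C.M → TC.chkRow C c = true :=
  TC.rows_step (rows17) k18
theorem rows19 : ∀ c < (1178 + 62) * 64, c < C.M → TC.chkRow C c = true :=
  TC.rows_step (rows18) k19
theorem rows20 : ∀ c < (1240 + 62) * 64, c < C.M → TC.chkRow C c = true :=
  TC.rows_step (rows19) k20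
theorem rows21 : ∀ c < (1302 + 62) * 64, c < C.M → TC.chkRow C c = true :=
  TC.rows_step (rows20) k21
theorem rows22 : ∀ c < (1364 + 62) * 64, c < C.M → TC.chkRow C c = true :=
  TC.rows_step (rows21) k22
theorem rows23 : ∀ c < (1426 + 62) * 64, c < C.M → TC.chkRow C c = true :=
  TC.rows_step (rows22) k23
theorem rows24 : ∀ c < (1488 + 62) * 64, c < C.M → TC.chkRow C c = true :=
  TC.rows_step (rows23) k24
theorem rows25 : ∀ c < (1550 + 62) * 64, c < C.M → TC.chkRow C c = true :=
  TC.rows_step (rows24) k25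
theorem rows26 : ∀ c < (1612 + 62) * 64, c < C.M → TC.chkRow C c = true :=
  TC.rows_step (rows25) k26
theorem rows27 : ∀ c < (1674 + 62) * 64, c < C.M → TC.chkRow C c = true :=
  TC.rows_step (rows26) k27
theorem rows28 : ∀ c < (1736 + 62) * 64, c < C.M → TC.chkRow C c = true :=
  TC.rows_step (rows27) k28
theorem rows29 : ∀ c < (1798 + 62) * 64, c < C.M → TC.chkRow C c = true :=
  TC.rows_step (rows28) k29
theorem rows30 : ∀ c < (1860 + 62) * 64, c < C.M → TC.chkRow C c = true :=
  TC.rows_step (rows29) k30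
theorem rows31 : ∀ c < (1922 + 62) * 64, c < C.M → TC.chkRow C c = true :=
  TC.rows_step (rows30) k31
theorem rows32 : ∀ c < (1984 + 62) * 64, c < C.M → TC.chkRow C c = true :=
  TC.rows_step (rows31) k32
theorem rows33 : ∀ c < (2046 + 62) * 64, c < C.M → TC.chkRow C c = true :=
  TC.rows_step (rows32) k33
theorem rows34 : ∀ c < (2108 + 62) * 64, c < C.M → TC.chkRow C c = true :=
  TC.rows_step (rows33) k34
theorem rows35 : ∀ c < (2170 + 62) * 64, c < C.M → TC.chkRow C c = true :=
  TC.rows_step (rows34) k35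
theorem rows36 : ∀ c < (2232 + 62) * 64, c < C.M → TC.chkRow C c = true :=
  TC.rows_step (rows35) k36
theorem rows37 : ∀ c < (2294 + 62) * 64, c < C.M → TC.chkRow C c = true :=
  TC.rows_step (rows36) k37
theorem rows38 : ∀ c < (2356 + 62) * 64, c < C.M → TC.chkRow C c = true :=
  TC.rows_step (rows37) k38
theorem rows39 : ∀ c < (2418 + 62) * 64, c < C.M → TC.chkRow C c = true :=
  TC.rows_step (rows38) k39
theorem rows40 : ∀ c < (2480 + 62) * 64, c < C.M → TC.chkRow C c = true :=
  TC.rows_step (rows39) k40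
theorem rows41 : ∀ c < (2542 + 62) * 64, c < C.M → TC.chkRow C c = true :=
  TC.rows_step (rows40) k41
theorem rows42 : ∀ c < (2604 + 62) * 64, c < C.M → TC.chkRow C c = true :=
  TC.rows_step (rows41) k42
theorem rows43 : ∀ c < (2666 + 62) * 64, c < C.M → TC.chkRow C c = true :=
  TC.rows_step (rows42) k43
theorem rows44 : ∀ c < (2728 + 62) * 64, c < C.M → TC.chkRow C c = true :=
  TC.rows_step (rows43) k44
theorem rows45 : ∀ c < (2790 + 62) * 64, c < C.M → TC.chkRow C c = true :=
  TC.rows_step (rows44) k45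
theorem rows46 : ∀ c < (2852 + 62) * 64, c < C.M → TC.chkRow C c = true :=
  TC.rows_step (rows45) k46
theorem rows47 : ∀ c < (2914 + 62) * 64, c < C.M → TC.chkRow C c = true :=
  TC.rows_step (rows46) k47
theorem rows48 : ∀ c < (2976 + 62) * 64, c < C.M → TC.chkRow C c = true :=
  TC.rows_step (rows47) k48
theorem rows49 : ∀ c < (3038 + 62) * 64, c < C.M → TC.chkRow C c = true :=
  TC.rows_step (rows48) k49
theorem rows50 : ∀ c < (3100 + 62) * 64, c < C.M → TC.chkRow C c = true :=
  TC.rows_step (rows49) k50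
theorem rows51 : ∀ c < (3162 + 62) * 64, c < C.M → TC.chkRow C c = true :=
  TC.rows_step (rows50) k51
theorem rows52 : ∀ c < (3224 + 62) * 64, c < C.M → TC.chkRow C c = true :=
  TC.rows_step (rows51) k52
theorem rows53 : ∀ c < (3286 + 62) * 64, c < C.M → TC.chkRow C c = true :=
  TC.rows_step (rows52) k53
theorem rows54 : ∀ c < (3348 + 62) * 64, c < C.M → TC.chkRow C c = true :=
  TC.rows_step (rows53) k54
theorem rows55 : ∀ c < (3410 + 62) * 64, c < C.M → TC.chkRow C c = true :=
  TC.rows_step (rows54) k55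
theorem rows56 : ∀ c < (3472 + 62) * 64, c < C.M → TC.chkRow C c = true :=
  TC.rows_step (rows55) k56
theorem rows57 : ∀ c < (3534 + 62) * 64, c < C.M → TC.chkRow C c = true :=
  TC.rows_step (rows56) k57
theorem rows58 : ∀ c < (3596 + 62) * 64, c < C.M → TC.chkRow C c = true :=
  TC.rows_step (rows57) k58
theorem rows59 : ∀ c < (3658 + 62) * 64, c < C.M → TC.chkRow C c = true :=
  TC.rows_step (rows58) k59
theorem rows60 : ∀ c < (3720 + 62) * 64, c < C.M → TC.chkRow C c = true :=
  TC.rows_step (rows59) k60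
theorem rows61 : ∀ c < (3782 + 62) * 64, c < C.M → TC.chkRow C c = true :=
  TC.rows_step (rows60) k61
theorem rows62 : ∀ c < (3844 + 62) * 64, c < C.M → TC.chkRow C c = true :=
  TC.rows_step (rows61) k62
theorem rows63 : ∀ c < (3906 + 62) * 64, c < C.M → TC.chkRow C c = true :=
  TC.rows_step (rows62) k63
theorem rows64 : ∀ c < (3968 + 62) * 64, c < C.M → TC.chkRow C c = true :=
  TC.rows_step (rows63) k64
theorem rows65 : ∀ c < (4030 + 62) * 64, c < C.M → TC.chkRow C c = true :=
  TC.rows_step (rows64) k65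
theorem rows66 : ∀ c < (4092 + 62) * 64, c < C.M → TC.chkRow C c = true :=
  TC.rows_step (rows65) k66
theorem rows67 : ∀ c < (4154 + 62) * 64, c < C.M → TC.chkRow C c = true :=
  TC.rows_step (rows66) k67
theorem rows68 : ∀ c < (4216 + 62) * 64, c < C.M → TC.chkRow C c = true :=
  TC.rows_step (rows67) k68
theorem rows69 : ∀ c < (4278 + 24) * 64, c < C.M → TC.chkRow C c = true :=
  TC.rows_step (rows68) k69
theorem main {G : Type*} [Group G] (g : ℕ → G) (hB : ∀ r ∈ B, ev g r = 1) (H : Subgroup G)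
    (hH : ∀ w ∈ subs, ev g w ∈ H) :
    H.relIndex (Subgroup.closure (g '' {x | x < 9})) ≠ 0 ∧
      H.relIndex (Subgroup.closure (g '' {x | x < 9})) ≤ 28160 :=
  TC.index_le C B subs ex inv hl tR.hint rfl (by decide +kernel) (by decide +kernel)
    (TC.rows_done rows69 (by decide +kernel)) g hB H hH
end H0.TCK1a
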