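import Cfsg.Agent.H0.TCK1a.D0
import Cfsg.Agent.H0.TCK1a.D1
import Cfsg.Agent.H0.TCK1a.D2
import Cfsg.Agent.H0.TCK1a.D3
import Cfsg.Agent.H0.TCK1a.D4
import Cfsg.Agent.H0.TCK1a.D5
import Cfsg.Agent.H0.TCK1a.D6
set_option maxRecDepth 100000
namespace H0.TCK1a
open H0
noncomputable def tS : Tr := (.node (.node (.node (.node (.node (.node (.node s0 s1) (.node s2 s3)) (.node (.node s4 s5) (.node s6 s7))) (.node (.node (.node s8 s9) (.node s10 s11)) (.node (.node s12 s13) (.node s14 s15)))) (.node (.node (.node (.node s16 s17) (.node s18 s19)) (.node (.node s20 s21) (.node s22 s23))) (.node (.node (.node s24 s25) (.node s26 s27)) (.node (.node s28 s29) (.node s30 s31))))) (.node (.node (.node (.node (.node s32 s33) (.node s34 s35)) (.node (.node s36 s37) (.node s38 s39))) (.node (.node (.node s40 s41) (.node s42 s43)) (.node (.node s44 s45) (.node s46 s47)))) (.node (.node (.node (.node s48 s49) (.node s50 s51)) (.node (.node s52 s53) (.node s54 s55))) (.node (.node (.node s56 s57) (.node s58 s59)) (.node (.node s60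 s61) (.node s62 s63)))))) (.node (.node (.node (.node (.node (.node s64 s65) (.node s66 s67)) (.node (.node s68 s69) (.node s70 s71))) (.node (.node (.node s72 s73) (.node s74 s75)) (.node (.node s76 s77) (.node s78 s79)))) (.node (.node (.node (.node s80 s81) (.node s82 s83)) (.node (.node s84 s85) (.node s86 s87))) (.node (.node (.node s88 s89) (.node s90 s91)) (.node (.node s92 s93) (.node s94 s95))))) (.node (.node (.node (.node (.node s96 s97) (.node s98 s99)) (.node (.node s100 s101) (.node s102 s103))) (.node (.node (.node s104 s105) (.node s106 s107)) (.node (.node s108 s109) (.node s110 s111)))) (.node (.node (.node (.node s112 s113) (.node s114 s115)) (.node (.node s116 s117) (.node s118 s119))) (.node (.node (.node s120 s121) (.node s122 s123)) (.node (.node s124 s125) (.node s126 s127)))))))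
noncomputable def tJ : Tr := (.node (.node (.node (.node (.node (.node (.node j0 j1) (.node j2 j3)) (.node (.node j4 j5) (.node j6 j7))) (.node (.node (.node j8 j9) (.node j10 j11)) (.node (.node j12 j13) (.node j14 j15)))) (.node (.node (.node (.node j16 j17) (.node j18 j19)) (.node (.node j20 j21) (.node j22 j23))) (.node (.node (.node j24 j25) (.node j26 j27)) (.node (.node j28 j29) (.node j30 j31))))) (.node (.node (.node (.node (.node j32 j33) (.node j34 j35)) (.node (.node j36 j37) (.node j38 j39))) (.node (.node (.node j40 j41) (.node j42 j43)) (.node (.node j44 j45) (.node j46 j47)))) (.node (.node (.node (.node j48 j49) (.node j50 j51)) (.node (.node j52 j53) (.node j54 j55))) (.node (.node (.node j56 j57) (.node j58 j59)) (.node (.node j60 j61) (.node j62 j63)))))) (.node (.node (.node (.node (.node (.node j64 j65) (.node j66 j67)) (.node (.node j68 j69) (.node j70 j71))) (.node (.node (.node j72 j73) (.node j74 j75)) (.node (.node j76 j77) (.node j78 j79)))) (.node (.node (.node (.node j80 j81) (.node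 j82 j83)) (.node (.node j84 j85) (.node j86 j87))) (.node (.node (.node j88 j89) (.node j90 j91)) (.node (.node j92 j93) (.node j94 j95))))) (.node (.node (.node (.node (.node j96 j97) (.node j98 j99)) (.node (.node j100 j101) (.node j102 j103))) (.node (.node (.node j104 j105) (.node j106 j107)) (.node (.node j108 j109) (.node j110 j111)))) (.node (.node (.node (.node j112 j113) (.node j114 j115)) (.node (.node j116 j117) (.node j118 j119))) (.node (.node (.node j120 j121) (.node j122 j123)) (.node (.node j124 j125) (.node j126 j127)))))))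
noncomputable def tQ : Tr := (.node (.node (.node (.node (.node (.node (.node q0 q1) (.node q2 q3)) (.node (.node q4 q5) (.node q6 q7))) (.node (.node (.node q8 q9) (.node q10 q11)) (.node (.node q12 q13) (.node q14 q15)))) (.node (.node (.node (.node q16 q17) (.node q18 q19)) (.node (.node q20 q21) (.node q22 q23))) (.node (.node (.node q24 q25) (.node q26 q27)) (.node (.node q28 q29) (.node q30 q31))))) (.node (.node (.node (.node (.node q32 q33) (.node q34 q35)) (.node (.node q36 q37) (.node q38 q39))) (.node (.node (.node q40 q41) (.node q42 q43)) (.node (.node q44 q45) (.node q46 q47)))) (.node (.node (.node (.node q48 q49) (.node q50 q51)) (.node (.node q52 q53) (.node q54 q55))) (.node (.node (.node q56 q57) (.node q58 q59)) (.node (.node q60 q61) (.node q62 q63)))))) (.node (.node (.node (.node (.node (.node q64 q65) (.node q66 q67)) (.node (.node q68 q69) (.node q70 q71))) (.node (.node (.node q72 q73) (.node q74 q75)) (.node (.node q76 q77) (.node q78 q79)))) (.node (.node (.node (.node q80 q81) (.node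 q82 q83)) (.node (.node q84 q85) (.node q86 q87))) (.node (.node (.node q88 q89) (.node q90 q91)) (.node (.node q92 q93) (.node q94 q95))))) (.node (.node (.node (.node (.node q96 q97) (.node q98 q99)) (.node (.node q100 q101) (.node q102 q103))) (.node (.node (.node q104 q105) (.node q106 q107)) (.node (.node q108 q109) (.node q110 q111)))) (.node (.node (.node (.node q112 q113) (.node q114 q115)) (.node (.node q116 q117) (.node q118 q119))) (.node (.node (.node q120 q121) (.node q122 q123)) (.node (.node q124 q125) (.node q126 q127)))))))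
noncomputable def tR : TC.WTr := (.node r0 r1)
def hl : List ℕ := [0, 1, 2, 3, 4, 5, 7, 8]
def B : List (List ℕ) := [[0, 0], [1, 1], [2, 2], [3, 3], [4, 4], [5, 5], [6, 6], [7, 7], [8, 8], [0, 1, 0, 1, 0, 1], [0, 2, 0, 2], [0, 3, 0, 3], [0, 4, 0, 4], [0, 5, 0, 5], [0, 6, 0, 6], [0, 7, 0, 7], [0, 8, 0, 8], [1, 2, 1, 2, 1, 2], [1, 3, 1, 3], [1, 4, 1, 4], [1, 5, 1, 5], [1, 6, 1, 6], [1, 7, 1, 7], [1, 8, 1, 8], [2, 3, 2, 3, 2, 3], [2, 4, 2, 4], [2, 5, 2, 5], [2, 6, 2, 6], [2, 7, 2, 7], [2, 8, 2, 8], [3, 4, 3, 4, 3, 4], [3, 5, 3, 5], [3, 6, 3, 6], [3, 7, 3, 7, 3, 7], [3, 8, 3, 8], [4, 5, 4, 5, 4, 5], [4, 6, 4, 6], [4, 7, 4, 7], [4, 8, 4, 8], [5, 6, 5, 6, 5, 6], [5, 7, 5, 7], [5, 8, 5, 8], [6, 7, 6, 7], [6, 8, 6, 8], [7, 8, 7, 8, 7, 8], [0, 1, 2, 3, 4, 5, 7, 0, 1, 2, 3, 4, 5, 7, 0, 1, 2, 3, 4, 5, 7, 0, 1, 2, 3, 4, 5, 7, 0, 1, 2, 3, 4, 5, 7, 0, 1, 2, 3, 4, 5, 7, 0, 1, 2, 3, 4, 5, 7, 0, 1, 2, 3, 4, 5, 7, 0, 1, 2, 3, 4, 5, 7]]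
def subs : List (List ℕ) := [[0], [1], [2], [3], [4], [5], [7], [8]]
def ex : List (List ℕ) := []
def inv (x : ℕ) : ℕ := [0, 1, 2, 3, 4, 5, 6, 7, 8].getD x 0
noncomputable def rS : ℕ → ℕ := rowOf tS (nat_lit 6) (nat_lit 63) (nat_lit 270) (nat_lit 1897137590064188545819787018382342682267975428761855001222473056385648716020711423)
noncomputable def rJ : ℕ → ℕ := rowOf tJ (nat_lit 6) (nat_lit 63) (nat_lit 88) (nat_lit 309485009821345068724781055)
noncomputable def C : TC.Cfg where
  S := look rS (nat_lit 27) (nat_lit 134217727)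
  J := look rJ (nat_lit 8) (nat_lit 255)
  Q := lookQ tQ (nat_lit 6) (nat_lit 25) (nat_lit 33554431)
  R := tR.get
  hl := fun x => hl.contains x
  n := (nat_lit 28160)
  M := (nat_lit 275284)
  top := (nat_lit 74601964)
  nl := (nat_lit 9)
  need := (nat_lit 9)
  nr := (nat_lit 11)
end H0.TCK1a
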